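import Groth.Agent.StrongApprox.Affine

/-!
# Approximation in the complement of a closed subset of codimension two of affine space
-/

set_option autoImplicit false

universe u

namespace Groth.Agent.StrongApprox

open NumberField IsDedekindDomain IsDedekindDomain.HeightOneSpectrum Filter Topology
open scoped nonZeroDivisors WithZero

variable {k : Type u} [Field k] [NumberField k] {n : ℕ}

theorem exists_approx_pi (v₀ : HeightOneSpectrum (𝓞 k)) (F : Finset (HeightOneSpectrum (𝓞 k))) (hv₀ : v₀ ∉ F)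
    (N : ∀ v : HeightOneSpectrum (𝓞 k), Set (Fin n → v.adicCompletion k)) (hN : ∀ v ∈ F, IsOpen (N v) ∧ (N v).Nonempty)
    (U : ∀ w : InfinitePlace k, Set (Fin n → w.Completion)) (hU : ∀ w, IsOpen (U w) ∧ (U w).Nonempty) :
    ∃ x : Fin n → k, (∀ v ∈ F, (fun i => algebraMap k (v.adicCompletion k) (x i)) ∈ N v) ∧
      (∀ w, (fun i => algebraMap k w.Completion (x i)) ∈ U w) ∧
      ∀ v, v ∉ F → v ≠ v₀ → ∀ i, v.valuation k (x i) ≤ 1 := by
  classical
  have hboxN : ∀ v : HeightOneSpectrum (𝓞 k), ∃ b : Fin n → Set (v.adicCompletion k),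
      (∀ i, v ∈ F → IsOpen (b i) ∧ (b i).Nonempty) ∧ (v ∈ F → Set.univ.pi b ⊆ N v) := fun v => by
    by_cases hv : v ∈ F
    · obtain ⟨a, ha⟩ := (hN v hv).2
      obtain ⟨b, hb, hb'⟩ := isOpen_pi_iff'.1 (hN v hv).1 a ha
      exact ⟨b, fun i _ => ⟨(hb i).1, a i, (hb i).2⟩, fun _ => hb'⟩
    · exact ⟨fun _ => ∅, fun i h => absurd h hv, fun h => absurd h hv⟩
  choose bN hbN hbN' using hboxN
  have hboxU : ∀ w : InfinitePlace k, ∃ b : Fin n → Set w.Completion,
      (∀ i, IsOpen (b i) ∧ (b i).Nonempty) ∧ Set.univ.pi b ⊆ U w := fun w => by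
    obtain ⟨a, ha⟩ := (hU w).2
    obtain ⟨b, hb, hb'⟩ := isOpen_pi_iff'.1 (hU w).1 a ha
    exact ⟨b, fun i => ⟨(hb i).1, a i, (hb i).2⟩, hb'⟩
  choose bU hbU hbU' using hboxU
  choose x hxN hxU hx using fun i => exists_approx v₀ F hv₀ (fun v => bN v i) (fun v hv => hbN v i hv)
    (fun w => bU w i) (fun w => hbU w i)
  exact ⟨x, fun v hv => hbN' v hv fun i _ => hxN i v hv, fun w => hbU' w fun i _ => hxU i w, fun v hv hv' i => hx i v hv hv'⟩

theorem finite_valuation_lt_one' {x : k} (hx : x ≠ 0) : {v : HeightOneSpectrum (𝓞 k) | v.valuation k x < 1}.Finite := by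
  obtain ⟨a, b, hb, rfl⟩ := IsFractionRing.div_surjective (A := 𝓞 k) x
  have ha : a ≠ 0 := fun h => hx (by rw [h, map_zero, zero_div])
  refine (finite_valuation_lt_one a ha).subset fun v hv => ?_
  rw [Set.mem_setOf_eq, map_div₀] at hv
  rw [Set.mem_setOf_eq, ← valuation_lt_one_iff_mem (K := k)]
  have hb0 : (0 : ℤᵐ⁰) < v.valuation k (algebraMap (𝓞 k) k b) := zero_lt_iff.2 ((Valuation.ne_zero_iff _).2
    fun h => nonZeroDivisors.ne_zero hb (RingOfIntegers.coe_injective (h.trans (map_zero _).symm)))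
  rw [div_lt_one₀ hb0] at hv
  exact hv.trans_le (valuation_coe_le_one v b)

/-- The integral points of the complement at a place. -/
def cond {m : ℕ} (f : Fin m → MvPolynomial (Fin n) (𝓞 k)) (v : HeightOneSpectrum (𝓞 k)) :
    Set (Fin n → v.adicCompletion k) :=
  {x | (∀ i, x i ∈ v.adicCompletionIntegers k) ∧ ∃ j, Valued.v (MvPolynomial.aeval x (toField (f j))) = (1 : ℤᵐ⁰)}

theorem isOpen_cond {m : ℕ} (f : Fin m → MvPolynomial (Fin n) (𝓞 k)) (v : HeightOneSpectrum (𝓞 k)) : IsOpen (cond f v) := by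
  have h1 : IsOpen {y : v.adicCompletion k | Valued.v y = (1 : ℤᵐ⁰)} := by
    have : {y : v.adicCompletion k | Valued.v y = (1 : ℤᵐ⁰)} = {y | Valued.v.restrict y = 1} := by
      ext y; exact (Valuation.restrict_eq_one_iff _).symm
    rw [this]
    exact Valued.isOpen_sphere _ one_ne_zero
  have h2 : IsOpen (v.adicCompletionIntegers k : Set (v.adicCompletion k)) := Valued.isOpen_valuationSubring _
  have hrw : cond f v = (⋂ i, (fun x : Fin n → v.adicCompletion k => x i) ⁻¹' (v.adicCompletionIntegers k : Set (v.adicCompletion k))) ∩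
      ⋃ j, (fun x : Fin n → v.adicCompletion k => MvPolynomial.aeval x (toField (f j))) ⁻¹' {y | Valued.v y = (1 : ℤᵐ⁰)} := by
    ext x; simp [cond]
  rw [hrw]
  refine IsOpen.inter (isOpen_iInter_of_finite fun i => h2.preimage (continuous_apply i)) (isOpen_iUnion fun j => h1.preimage ?_)
  simp only [MvPolynomial.aeval_eq_eval₂Hom, MvPolynomial.eval₂Hom_eq_bind₂]
  have : ∀ p : MvPolynomial (Fin n) k, Continuous fun x : Fin n → v.adicCompletion k => MvPolynomial.aeval x p := fun p => by
    induction p using MvPolynomial.induction_on with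
    | C a => simp only [MvPolynomial.aeval_C]; exact continuous_const
    | add p q hp hq => simp only [map_add]; exact hp.add hq
    | mul_X p i hp => simp only [map_mul, MvPolynomial.aeval_X]; exact hp.mul (continuous_apply i)
  simpa [MvPolynomial.aeval_eq_eval₂Hom, MvPolynomial.eval₂Hom_eq_bind₂] using this (toField (f j))

theorem mem_cond_iff {m : ℕ} (f : Fin m → MvPolynomial (Fin n) (𝓞 k)) (v : HeightOneSpectrum (𝓞 k)) (x : Fin n → k) :
    (fun i => algebraMap k (v.adicCompletion k) (x i)) ∈ cond f v ↔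
      (∀ i, v.valuation k (x i) ≤ 1) ∧ ∃ j, v.valuation k (MvPolynomial.aeval x (toField (f j))) = 1 := by
  refine and_congr (forall_congr' fun i => ?_) (exists_congr fun j => ?_)
  · rw [mem_adicCompletionIntegers]
    exact Eq.to_iff (congrArg (· ≤ (1 : ℤᵐ⁰)) (valuedAdicCompletion_eq_valuation' v (x i)))
  · rw [show (fun i => algebraMap k (v.adicCompletion k) (x i)) = algebraMap k (v.adicCompletion k) ∘ x from rfl,
      MvPolynomial.aeval_algebraMap_apply]
    exact Eq.to_iff (congrArg (· = (1 : ℤᵐ⁰)) (valuedAdicCompletion_eq_valuation' v _))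

/-- A nonzero polynomial does not vanish identically near a point. -/
theorem exists_mem_open_aeval_ne_zero (w : InfinitePlace k) {N : Set (Fin n → w.Completion)} (hN : IsOpen N)
    (hne : N.Nonempty) {g : MvPolynomial (Fin n) k} (hg : g ≠ 0) :
    ∃ x ∈ N, MvPolynomial.aeval x g ≠ 0 := by
  obtain ⟨a, ha⟩ := hne
  obtain ⟨r, hr⟩ : ∃ r : Fin n → k, MvPolynomial.eval r g ≠ 0 := by
    by_contra! hcon
    exact hg (MvPolynomial.funext fun r => by rw [hcon r, map_zero])
  let K := w.Completion
  let gK : MvPolynomial (Fin n) K := MvPolynomial.map (algebraMap k K) g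
  let d : Fin n → K := fun i => algebraMap k K (r i) - a i
  let p : Polynomial K := line a d gK
  have hp : ∀ ε : K, p.eval ε = MvPolynomial.aeval (fun i => a i + ε * d i) g := fun ε => by
    rw [eval_line, MvPolynomial.eval_map, MvPolynomial.aeval_def]
  have hp0 : p ≠ 0 := fun h => hr (by
    have h1 := hp 1
    rw [h, Polynomial.eval_zero, show (fun i => a i + 1 * d i) = algebraMap k K ∘ r from funext fun i => by simp [d],
      MvPolynomial.aeval_algebraMap_apply, MvPolynomial.aeval_eq_eval] at h1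
    exact (_root_.map_eq_zero _).1 h1.symm)
  let e : ℕ → K := fun N => algebraMap k K (((1 / 2 : ℚ) : k)) ^ N
  have he : ‖algebraMap k K (((1 / 2 : ℚ) : k))‖ = 1 / 2 := by
    rw [show ‖algebraMap k K (((1 / 2 : ℚ) : k))‖ = w ((1 / 2 : ℚ) : k) from
      InfinitePlace.Completion.norm_coe (v := w) (WithAbs.toAbs w.1 _), place_ratCast]
    norm_num
  have hcont : Continuous fun ε : K => (fun i => a i + ε * d i) := continuous_pi fun i => continuous_const.add (continuous_id.mul continuous_const)
  have h1 : ∀ᶠ M in atTop, (fun i => a i + e M * d i) ∈ N := by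
    exact (tendsto_pow_atTop_nhds_zero_of_norm_lt_one (by rw [he]; norm_num)).eventually
      ((hN.preimage hcont).mem_nhds (by simpa using ha))
  have hinj : Function.Injective e := fun a b hab => by
    have := congrArg norm hab
    simp only [e, norm_pow, he] at this
    exact pow_right_injective₀ (by norm_num : (0 : ℝ) < 1 / 2) (by norm_num) this
  have h2 : ∀ᶠ M in atTop, ¬ p.IsRoot (e M) := by
    rw [← Nat.cofinite_eq_atTop]
    exact Set.Finite.compl_mem_cofinite ((p.finite_setOf_isRoot hp0).preimage hinj.injOn)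
  obtain ⟨N₁, hN₁, hN₂⟩ := (h1.and h2).exists
  exact ⟨_, hN₁, by rw [← hp]; exact hN₂⟩

/-- Strong approximation off a place for the complement of a closed subset of codimension two. -/
theorem exists_integral_point {m : ℕ} (hn : 1 ≤ n) (f : Fin m → MvPolynomial (Fin n) (𝓞 k))
    (hcodim : ringKrullDim (MvPolynomial (Fin n) k ⧸ Ideal.span (Set.range fun j => toField (f j))) + 2 ≤ (n : WithBot ℕ∞))
    (v₀ : HeightOneSpectrum (𝓞 k)) (Sf : Finset (HeightOneSpectrum (𝓞 k))) (hv₀ : v₀ ∈ Sf)
    (Nf : ∀ v : HeightOneSpectrum (𝓞 k), Set (Fin n → v.adicCompletion k))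
    (hNf : ∀ v ∈ Sf, v ≠ v₀ → IsOpen (Nf v) ∧ (Nf v).Nonempty)
    (Ni : ∀ w : InfinitePlace k, Set (Fin n → w.Completion)) (hNi : ∀ w, IsOpen (Ni w) ∧ (Ni w).Nonempty)
    (T : Finset (HeightOneSpectrum (𝓞 k))) (hT : Disjoint T Sf)
    (W : ∀ v : HeightOneSpectrum (𝓞 k), Set (Fin n → v.adicCompletion k))
    (hW : ∀ v ∈ T, IsOpen (W v) ∧ (W v ∩ cond f v).Nonempty)
    (hne : ∀ v, v ∉ Sf → (cond f v).Nonempty) :
    ∃ P : Fin n → k,
      (∀ v : HeightOneSpectrum (𝓞 k), v ∉ Sf → (∀ i, v.valuation k (P i) ≤ 1) ∧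
        ∃ j, v.valuation k (MvPolynomial.aeval P (toField (f j))) = 1) ∧
      (∀ v ∈ Sf, v ≠ v₀ → (fun i => algebraMap k (v.adicCompletion k) (P i)) ∈ Nf v) ∧
      (∀ w, (fun i => algebraMap k w.Completion (P i)) ∈ Ni w) ∧
      ∀ v ∈ T, (fun i => algebraMap k (v.adicCompletion k) (P i)) ∈ W v := by
  classical
  let i₀ : Fin n := ⟨0, hn⟩
  -- some `f j` is nonzero
  obtain ⟨j₀, hj₀⟩ : ∃ j, f j ≠ 0 := by
    by_contra! hcon
    have hI : Ideal.span (Set.range fun j => toField (f j)) = (⊥ : Ideal (MvPolynomial (Fin n) k)) :=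
      Ideal.span_eq_bot.2 fun x ⟨j, hx⟩ => by rw [← hx]; simp [toField, hcon j]
    rw [hI, ringKrullDim_eq_of_ringEquiv (RingEquiv.quotientBot _), MvPolynomial.ringKrullDim_of_isNoetherianRing,
      ringKrullDim_eq_zero_of_field, zero_add] at hcodim
    have h : ((n + 2 : ℕ) : WithBot ℕ∞) ≤ (n : WithBot ℕ∞) := by simpa using hcodim
    have : n + 2 ≤ n := by exact_mod_cast h
    omega
  let D := (f j₀).totalDegree
  have htop : MvPolynomial.homogeneousComponent D (f j₀) ≠ 0 := fun h => by
    obtain ⟨s, hs, hsd⟩ := Finset.exists_mem_eq_sup _ (MvPolynomial.support_nonempty.2 hj₀) fun s : Fin n →₀ ℕ => s.sum fun _ e => e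
    have h2 := congrArg (MvPolynomial.coeff s) h
    rw [MvPolynomial.coeff_homogeneousComponent, if_pos, MvPolynomial.coeff_zero] at h2
    · exact MvPolynomial.mem_support_iff.1 hs h2
    · rw [Finsupp.degree_eq_sum]
      refine Eq.trans ?_ hsd.symm
      exact (Finsupp.sum_fintype s (fun _ e => e) fun _ => rfl).symm
  obtain ⟨d, hd, hd₀⟩ := exists_direction _ htop i₀
  obtain ⟨g, a, hg, hga, hginv⟩ := exists_invariant f hcodim d i₀ hd₀
  let c : 𝓞 k := MvPolynomial.eval d (MvPolynomial.homogeneousComponent D (f j₀)) * ((D + 1).factorial : 𝓞 k)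
  have hc : c ≠ 0 := mul_ne_zero hd (Nat.cast_ne_zero.2 (Nat.factorial_ne_zero _))
  let Bad := T ∪ (finite_valuation_lt_one c hc).toFinset.filter (· ∉ Sf)
  have hBad : ∀ v ∈ Bad, v ∉ Sf := fun v hv hvS => by
    rcases Finset.mem_union.1 hv with h | h
    · exact Finset.disjoint_left.1 hT h hvS
    · exact (Finset.mem_filter.1 h).2 hvS
  -- first stage
  let N1 : ∀ v : HeightOneSpectrum (𝓞 k), Set (Fin n → v.adicCompletion k) := fun v =>
    if v ∈ Sf then Nf v else if v ∈ T then W v ∩ cond f v else cond f v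
  let F1 := (Sf ∪ Bad).erase v₀
  have hN1 : ∀ v, v ≠ v₀ → IsOpen (N1 v) ∧ (v ∈ Sf ∪ Bad → (N1 v).Nonempty) := fun v hv => by
    by_cases hS : v ∈ Sf
    · simp only [N1, if_pos hS]
      exact ⟨(hNf v hS hv).1, fun _ => (hNf v hS hv).2⟩
    · by_cases hTv : v ∈ T
      · simp only [N1, if_neg hS, if_pos hTv]
        exact ⟨(hW v hTv).1.inter (isOpen_cond f v), fun _ => (hW v hTv).2⟩
      · simp only [N1, if_neg hS, if_neg hTv]
        exact ⟨isOpen_cond f v, fun _ => hne v hS⟩
  have hN1cond : ∀ v, v ∉ Sf → N1 v ⊆ cond f v := fun v hS => by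
    by_cases hTv : v ∈ T
    · simp only [N1, if_neg hS, if_pos hTv]; exact Set.inter_subset_right
    · simp only [N1, if_neg hS, if_neg hTv]; exact subset_rfl
  let w₀ : InfinitePlace k := Classical.arbitrary _
  have hgc : ∀ w : InfinitePlace k, Continuous fun x : Fin n → w.Completion => MvPolynomial.aeval x (toField g) := fun w => by
    induction (toField g) using MvPolynomial.induction_on with
    | C a => simp only [MvPolynomial.aeval_C]; exact continuous_const
    | add p q hp hq => simp only [map_add]; exact hp.add hq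
    | mul_X p i hp => simp only [map_mul, MvPolynomial.aeval_X]; exact hp.mul (continuous_apply i)
  let U1 : ∀ w : InfinitePlace k, Set (Fin n → w.Completion) := fun w =>
    Ni w ∩ {x | w = w₀ → MvPolynomial.aeval x (toField g) ≠ 0}
  obtain ⟨B, hBF, hBU, hB⟩ := exists_approx_pi v₀ F1 (Finset.notMem_erase _ _) N1
    (fun v hv => ⟨(hN1 v (Finset.mem_erase.1 hv).1).1, (hN1 v (Finset.mem_erase.1 hv).1).2 (Finset.mem_erase.1 hv).2⟩) U1 fun w => by
      refine ⟨(hNi w).1.inter ?_, ?_⟩
      · by_cases hw : w = w₀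
        · have hset : {x : Fin n → w.Completion | w = w₀ → MvPolynomial.aeval x (toField g) ≠ 0} =
              (fun x => MvPolynomial.aeval x (toField g)) ⁻¹' ({0}ᶜ : Set w.Completion) := by
            ext x; simp [hw]
          rw [hset]
          exact (isOpen_compl_singleton).preimage (hgc w)
        · simp [hw]
      · obtain ⟨x, hx, hx'⟩ := exists_mem_open_aeval_ne_zero w (hNi w).1 (hNi w).2 hg
        exact ⟨x, hx, fun _ => hx'⟩
  have hgB : MvPolynomial.aeval B (toField g) ≠ 0 := fun h => (hBU w₀).2 rfl (by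
    show MvPolynomial.aeval (algebraMap k w₀.Completion ∘ B) (toField g) = 0
    rw [MvPolynomial.aeval_algebraMap_apply, h, map_zero])
  have hBint : ∀ v, v ∉ Sf → ∀ i, v.valuation k (B i) ≤ 1 := fun v hS => by
    by_cases hv : v ∈ F1
    · exact ((mem_cond_iff f v B).1 (hN1cond v hS (hBF v hv))).1
    · exact hB v hv fun e => hS (e ▸ hv₀)
  -- second stage
  let E := (finite_valuation_lt_one' hgB).toFinset.filter fun v => v ∉ Sf ∧ v ∉ Bad
  let mv : ∀ v : HeightOneSpectrum (𝓞 k), v.adicCompletion k → Fin n → v.adicCompletion k := fun v t i =>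
    algebraMap k _ (B i) + t * algebraMap k _ (d i : k)
  let mw : ∀ w : InfinitePlace k, w.Completion → Fin n → w.Completion := fun w t i =>
    algebraMap k _ (B i) + t * algebraMap k _ (d i : k)
  have hE : ∀ v ∈ E, (mv v ⁻¹' N1 v).Nonempty := fun v hv => by
    obtain ⟨-, hS, hBv⟩ := Finset.mem_filter.1 hv
    have hTv : v ∉ T := fun h => hBv (Finset.mem_union_left _ h)
    have hcv : c ∉ v.asIdeal := fun h => hBv (Finset.mem_union_right _ (Finset.mem_filter.2 ⟨(Set.Finite.mem_toFinset _).2 h, hS⟩))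
    choose r hr using fun i => v.exists_valuation_sub_lt_of_integer (hBint v hS i) 1
    obtain ⟨hdeg, hcoeff⟩ := line_degree r d (f j₀)
    haveI := v.isPrime
    obtain ⟨t, ht⟩ := exists_notMem_line (P := v.asIdeal) (fun h => hcv (Ideal.mul_mem_left _ _ h)) (line r d (f j₀)) hdeg
      (by rw [hcoeff]; exact fun h => hcv (Ideal.mul_mem_right _ _ h))
    rw [eval_line] at ht
    have ht1 : ∀ i, v.valuation k ((t : k) * (d i : k)) ≤ 1 := fun i => by
      rw [← map_natCast (algebraMap (𝓞 k) k) t, ← map_mul]; exact valuation_coe_le_one v _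
    let y : Fin n → k := fun i => B i + (t : k) * (d i : k)
    have hy : ∀ i, v.valuation k (y i) ≤ 1 := fun i => Valuation.map_add_le _ (hBint v hS i) (ht1 i)
    have hval : v.valuation k (MvPolynomial.aeval y (toField (f j₀))) = 1 := by
      let z : Fin n → 𝓞 k := fun i => r i + (t : 𝓞 k) * d i
      have hyz : ∀ i, v.valuation k (y i - (z i : k)) < 1 := fun i => by
        rw [show y i - (z i : k) = -((r i : k) - B i) by simp only [y, z, map_add, map_mul, map_natCast]; ring, Valuation.map_neg]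
        exact hr i
      have h1 := aeval_valuation_sub_lt v (f j₀) hy (fun i => valuation_coe_le_one v (z i)) hyz
      rw [aeval_coe] at h1
      have h2 : v.valuation k ((MvPolynomial.eval z (f j₀) : 𝓞 k) : k) = 1 := valuation_coe_eq_one ht
      rw [← h2] at h1
      exact (Valuation.map_eq_of_sub_lt _ h1).trans h2
    refine ⟨algebraMap k _ (t : k), ?_⟩
    rw [Set.mem_preimage, show mv v (algebraMap k _ (t : k)) = fun i => algebraMap k _ (y i) from funext fun i => by
      simp only [mv, y, map_add, map_mul]]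
    simp only [N1, if_neg hS, if_neg hTv]
    exact (mem_cond_iff f v y).2 ⟨hy, j₀, hval⟩
  let F2 := (Sf ∪ Bad ∪ E).erase v₀
  obtain ⟨t, htF, htU, ht⟩ := exists_approx v₀ F2 (Finset.notMem_erase _ _) (fun v => mv v ⁻¹' N1 v) (fun v hv => by
      obtain ⟨hv0, hv⟩ := Finset.mem_erase.1 hv
      refine ⟨(hN1 v hv0).1.preimage (continuous_pi fun i => continuous_const.add (continuous_id.mul continuous_const)), ?_⟩
      rcases Finset.mem_union.1 hv with h | h
      · refine ⟨0, ?_⟩
        have := hBF v (Finset.mem_erase.2 ⟨hv0, h⟩)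
        simpa [mv] using this
      · exact hE v h)
    (fun w => mw w ⁻¹' Ni w) fun w => by
      refine ⟨(hNi w).1.preimage (continuous_pi fun i => continuous_const.add (continuous_id.mul continuous_const)), 0, ?_⟩
      simpa [mw] using (hBU w).1
  let P : Fin n → k := fun i => B i + t * (d i : k)
  have hmvP : ∀ v : HeightOneSpectrum (𝓞 k), mv v (algebraMap k _ t) = fun i => algebraMap k (v.adicCompletion k) (P i) :=
    fun v => funext fun i => by simp only [mv, P, map_add, map_mul]
  have hPN : ∀ v ∈ F2, (fun i => algebraMap k (v.adicCompletion k) (P i)) ∈ N1 v := fun v hv => hmvP v ▸ htF v hv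
  refine ⟨P, fun v hS => ?_, fun v hS hv0 => ?_, fun w => ?_, fun v hTv => ?_⟩
  · by_cases hv : v ∈ F2
    · exact (mem_cond_iff f v P).1 (hN1cond v hS (hPN v hv))
    · have hv0 : v ≠ v₀ := fun e => hS (e ▸ hv₀)
      have hvB : v ∉ Bad := fun h => hv (Finset.mem_erase.2 ⟨hv0, Finset.mem_union_left _ (Finset.mem_union_right _ h)⟩)
      have hP : ∀ i, v.valuation k (P i) ≤ 1 := fun i => Valuation.map_add_le _ (hBint v hS i) (by
        rw [map_mul]; exact mul_le_one' (ht v hv hv0) (valuation_coe_le_one v _))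
      refine ⟨hP, ?_⟩
      have hgv : ¬ v.valuation k (MvPolynomial.aeval B (toField g)) < 1 := fun h =>
        hv (Finset.mem_erase.2 ⟨hv0, Finset.mem_union_right _ (Finset.mem_filter.2 ⟨(Set.Finite.mem_toFinset _).2 h, hS, hvB⟩)⟩)
      by_contra! hcon
      refine hgv ?_
      rw [← hginv B t, hga, toField, map_sum, map_sum]
      refine Valuation.map_sum_lt _ one_ne_zero fun j _ => ?_
      rw [map_mul, map_mul, map_mul]
      refine (mul_le_of_le_one_left' (aeval_valuation_le v (a j) hP)).trans_lt (lt_of_le_of_ne (aeval_valuation_le v (f j) hP) (hcon j))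
  · have := hPN v (Finset.mem_erase.2 ⟨hv0, Finset.mem_union_left _ (Finset.mem_union_left _ hS)⟩)
    simpa [N1, if_pos hS] using this
  · have h := htU w
    rw [Set.mem_preimage, show mw w (algebraMap k _ t) = fun i => algebraMap k w.Completion (P i) from funext fun i => by
      simp only [mw, P, map_add, map_mul]] at h
    exact h
  · have hS : v ∉ Sf := Finset.disjoint_left.1 hT hTv
    have hv0 : v ≠ v₀ := fun e => hS (e ▸ hv₀)
    have := hPN v (Finset.mem_erase.2 ⟨hv0, Finset.mem_union_left _ (Finset.mem_union_right _ (Finset.mem_union_left _ hTv))⟩)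
    simp only [N1, if_neg hS, if_pos hTv] at this
    exact this.1

end Groth.Agent.StrongApprox
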