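import Groth.Agent.StrongApprox.Basic
import Groth.Agent.DimTrdeg.Basic

/-!
# Polynomials on lines, elimination and congruences
-/

set_option autoImplicit false

universe u

namespace Groth.Agent.StrongApprox

open NumberField IsDedekindDomain IsDedekindDomain.HeightOneSpectrum
open scoped nonZeroDivisors WithZero

section Ring

variable {R : Type*} [CommRing R] {n : ℕ}

/-- A polynomial on a line. -/
noncomputable def line (r d : Fin n → R) : MvPolynomial (Fin n) R →ₐ[R] Polynomial R :=
  MvPolynomial.aeval fun i => Polynomial.C (r i) + Polynomial.C (d i) * Polynomial.X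

theorem eval_line (r d : Fin n → R) (t : R) (f : MvPolynomial (Fin n) R) :
    (line r d f).eval t = MvPolynomial.eval (fun i => r i + t * d i) f := by
  induction f using MvPolynomial.induction_on with
  | C a => simp [line]
  | add p q hp hq => simp [hp, hq]
  | mul_X p i hp =>
    rw [map_mul, Polynomial.eval_mul, hp, map_mul, MvPolynomial.eval_X]
    simp only [line, MvPolynomial.aeval_X, Polynomial.eval_add, Polynomial.eval_C, Polynomial.eval_mul, Polynomial.eval_X]
    ring

theorem line_degree (r d : Fin n → R) (f : MvPolynomial (Fin n) R) :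
    (line r d f).natDegree ≤ f.totalDegree ∧
      (line r d f).coeff f.totalDegree = MvPolynomial.eval d (MvPolynomial.homogeneousComponent f.totalDegree f) := by
  classical
  let L : Fin n → Polynomial R := fun i => Polynomial.C (r i) + Polynomial.C (d i) * Polynomial.X
  have hL : ∀ i, (L i).natDegree ≤ 1 := fun i =>
    Polynomial.natDegree_add_le_of_degree_le ((Polynomial.natDegree_C _).trans_le zero_le_one)
      ((Polynomial.natDegree_C_mul_le _ _).trans Polynomial.natDegree_X_le)
  have hmon : ∀ (s : Fin n →₀ ℕ) (N : ℕ), s.degree ≤ N →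
      (∏ i, L i ^ s i).natDegree ≤ N ∧ (∏ i, L i ^ s i).coeff N = if s.degree = N then ∏ i, d i ^ s i else 0 := by
    intro s N hs
    have hdeg : (∏ i, L i ^ s i).natDegree ≤ s.degree := by
      rw [Finsupp.degree_eq_sum]
      exact (Polynomial.natDegree_prod_le _ _).trans (Finset.sum_le_sum fun i _ =>
        Polynomial.natDegree_pow_le.trans ((Nat.mul_le_mul_left _ (hL i)).trans_eq (mul_one _)))
    refine ⟨hdeg.trans hs, ?_⟩
    split_ifs with h
    · subst h
      have key : ∀ T : Finset (Fin n), (∏ i ∈ T, L i ^ s i).natDegree ≤ ∑ i ∈ T, s i ∧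
          (∏ i ∈ T, L i ^ s i).coeff (∑ i ∈ T, s i) = ∏ i ∈ T, d i ^ s i := fun T => by
        induction T using Finset.induction_on with
        | empty => simp
        | insert a T ha ih =>
          have h1 : (L a ^ s a).natDegree ≤ s a :=
            Polynomial.natDegree_pow_le.trans ((Nat.mul_le_mul_left _ (hL a)).trans_eq (mul_one _))
          rw [Finset.prod_insert ha, Finset.sum_insert ha, Finset.prod_insert ha]
          refine ⟨Polynomial.natDegree_mul_le.trans (add_le_add h1 ih.1), ?_⟩
          rw [Polynomial.coeff_mul_add_eq_of_natDegree_le h1 ih.1, ih.2]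
          have h2 := Polynomial.coeff_pow_of_natDegree_le (p := L a) (m := s a) (hL a)
          rw [mul_one] at h2
          rw [h2]
          simp [L]
      rw [Finsupp.degree_eq_sum]
      exact (key Finset.univ).2
    · exact Polynomial.coeff_eq_zero_of_natDegree_lt (hdeg.trans_lt (lt_of_le_of_ne hs h))
  have hexp : line r d f = ∑ s ∈ f.support, Polynomial.C (f.coeff s) * ∏ i, L i ^ s i := by
    show MvPolynomial.aeval L f = _
    rw [MvPolynomial.aeval_def, MvPolynomial.eval₂_eq']
    rfl
  refine ⟨?_, ?_⟩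
  · rw [hexp]
    exact Polynomial.natDegree_sum_le_of_forall_le _ _ fun s hs =>
      (Polynomial.natDegree_C_mul_le _ _).trans (hmon s _ ((Finsupp.degree_eq_sum s).le.trans (by
        have := MvPolynomial.le_totalDegree hs
        rwa [Finsupp.sum_fintype _ _ fun _ => rfl] at this))).1
  · rw [hexp, Polynomial.finsetSum_coeff, MvPolynomial.homogeneousComponent_apply, map_sum, Finset.sum_filter]
    refine Finset.sum_congr rfl fun s hs => ?_
    have hle : s.degree ≤ f.totalDegree := by
      rw [Finsupp.degree_eq_sum]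
      have := MvPolynomial.le_totalDegree hs
      rwa [Finsupp.sum_fintype _ _ fun _ => rfl] at this
    rw [Polynomial.coeff_C_mul, (hmon s _ hle).2, MvPolynomial.eval_monomial, Finsupp.prod_fintype _ _ fun _ => pow_zero _]
    split_ifs <;> simp

theorem exists_notMem_line {P : Ideal R} [P.IsPrime] {D : ℕ} (hfac : ((D + 1).factorial : R) ∉ P) (p : Polynomial R)
    (hdeg : p.natDegree ≤ D) (hc : p.coeff D ∉ P) : ∃ j : ℕ, p.eval (j : R) ∉ P := by
  classical
  by_contra! hcon
  let q := p.map (Ideal.Quotient.mk P)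
  have hq : q ≠ 0 := fun h => hc (Ideal.Quotient.eq_zero_iff_mem.1 (by
    have := congrArg (fun p => Polynomial.coeff p D) h
    simpa [q] using this))
  have hinj : Set.InjOn (fun j : ℕ => ((j : R ⧸ P))) (Finset.range (D + 1) : Set ℕ) := by
    suffices key : ∀ a b : ℕ, a ≤ b → b < D + 1 → (a : R ⧸ P) = b → a = b by
      intro a ha b hb hab
      simp only [Finset.coe_range, Set.mem_Iio] at ha hb
      rcases le_total a b with h | h
      · exact key a b h hb hab
      · exact (key b a h ha hab.symm).symm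
    intro a b hlt hb hab
    by_contra hne
    have h1 : ((b - a : ℕ) : R) ∈ P := by
      rw [← Ideal.Quotient.eq_zero_iff_mem, map_natCast, Nat.cast_sub hlt, sub_eq_zero]
      exact hab.symm
    obtain ⟨c, hc'⟩ : (b - a) ∣ (D + 1).factorial := Nat.dvd_factorial (by omega) (by omega)
    exact hfac (by rw [hc', Nat.cast_mul]; exact Ideal.mul_mem_right _ _ h1)
  refine hq (Polynomial.eq_zero_of_natDegree_lt_card_of_eval_eq_zero' q ((Finset.range (D + 1)).image fun j : ℕ => (j : R ⧸ P)) ?_ ?_)
  · intro x hx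
    obtain ⟨j, -, rfl⟩ := Finset.mem_image.1 hx
    rw [← map_natCast (Ideal.Quotient.mk P), Polynomial.eval_map, Polynomial.eval₂_hom]
    exact Ideal.Quotient.eq_zero_iff_mem.2 (hcon j)
  · rw [Finset.card_image_of_injOn hinj, Finset.card_range]
    exact Nat.lt_succ_of_le (Polynomial.natDegree_map_le.trans hdeg)

end Ring

variable {k : Type u} [Field k] [NumberField k] {n : ℕ}

/-- A polynomial with integral coefficients in the field. -/
noncomputable def toField (f : MvPolynomial (Fin n) (𝓞 k)) : MvPolynomial (Fin n) k :=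
  MvPolynomial.map (algebraMap (𝓞 k) k) f

theorem aeval_valuation_le (v : HeightOneSpectrum (𝓞 k)) (f : MvPolynomial (Fin n) (𝓞 k)) {x : Fin n → k}
    (hx : ∀ i, v.valuation k (x i) ≤ 1) : v.valuation k (MvPolynomial.aeval x (toField f)) ≤ 1 := by
  rw [toField]
  induction f using MvPolynomial.induction_on with
  | C a => simpa using valuation_coe_le_one v a
  | add p q hp hq => simp only [map_add]; exact Valuation.map_add_le _ hp hq
  | mul_X p i hp => simp only [map_mul, MvPolynomial.map_X, MvPolynomial.aeval_X]; exact mul_le_one' hp (hx i)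

theorem aeval_valuation_sub_lt (v : HeightOneSpectrum (𝓞 k)) (f : MvPolynomial (Fin n) (𝓞 k)) {x y : Fin n → k}
    (hx : ∀ i, v.valuation k (x i) ≤ 1) (hy : ∀ i, v.valuation k (y i) ≤ 1) (hxy : ∀ i, v.valuation k (x i - y i) < 1) :
    v.valuation k (MvPolynomial.aeval x (toField f) - MvPolynomial.aeval y (toField f)) < 1 := by
  induction f using MvPolynomial.induction_on with
  | C a => simp [toField]
  | add p q hp hq =>
    simp only [toField, map_add] at hp hq ⊢
    rw [add_sub_add_comm]
    exact Valuation.map_add_lt _ hp hq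
  | mul_X p i hp =>
    simp only [toField, map_mul, MvPolynomial.map_X, MvPolynomial.aeval_X] at hp ⊢
    rw [show MvPolynomial.aeval x (MvPolynomial.map (algebraMap (𝓞 k) k) p) * x i - MvPolynomial.aeval y (MvPolynomial.map (algebraMap (𝓞 k) k) p) * y i =
      (MvPolynomial.aeval x (MvPolynomial.map (algebraMap (𝓞 k) k) p) - MvPolynomial.aeval y (MvPolynomial.map (algebraMap (𝓞 k) k) p)) * x i +
        MvPolynomial.aeval y (MvPolynomial.map (algebraMap (𝓞 k) k) p) * (x i - y i) by ring]
    refine Valuation.map_add_lt _ ?_ ?_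
    · rw [map_mul]; exact (mul_le_of_le_one_right' (hx i)).trans_lt hp
    · rw [map_mul]; exact (mul_le_of_le_one_left' (aeval_valuation_le v p hy)).trans_lt (hxy i)

theorem aeval_coe (f : MvPolynomial (Fin n) (𝓞 k)) (x : Fin n → 𝓞 k) :
    MvPolynomial.aeval (fun i => (x i : k)) (toField f) = (MvPolynomial.eval x f : k) := by
  rw [toField]
  induction f using MvPolynomial.induction_on with
  | C a => simp
  | add p q hp hq => simp only [map_add, hp, hq]
  | mul_X p i hp => simp only [map_mul, MvPolynomial.map_X, MvPolynomial.aeval_X, MvPolynomial.eval_X, hp]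

theorem exists_clear (p : MvPolynomial (Fin n) k) :
    ∃ (b : 𝓞 k) (q : MvPolynomial (Fin n) (𝓞 k)), b ≠ 0 ∧ toField q = MvPolynomial.C (b : k) * p := by
  induction p using MvPolynomial.induction_on with
  | C a =>
    obtain ⟨x, y, hy, rfl⟩ := IsFractionRing.div_surjective (A := 𝓞 k) a
    have hy0 : (algebraMap (𝓞 k) k y) ≠ 0 := fun h => nonZeroDivisors.ne_zero hy (RingOfIntegers.coe_injective (h.trans (map_zero _).symm))
    exact ⟨y, MvPolynomial.C x, nonZeroDivisors.ne_zero hy, by rw [toField, MvPolynomial.map_C, ← MvPolynomial.C_mul, mul_div_cancel₀ _ hy0]⟩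
  | add p q hp hq =>
    obtain ⟨b, p', hb, hp'⟩ := hp
    obtain ⟨c, q', hc, hq'⟩ := hq
    refine ⟨b * c, MvPolynomial.C c * p' + MvPolynomial.C b * q', mul_ne_zero hb hc, ?_⟩
    simp only [toField] at hp' hq' ⊢
    simp only [map_add, map_mul, MvPolynomial.map_C, hp', hq']
    ring
  | mul_X p i hp =>
    obtain ⟨b, p', hb, hp'⟩ := hp
    refine ⟨b, p' * MvPolynomial.X i, hb, ?_⟩
    simp only [toField] at hp' ⊢
    rw [map_mul, hp', MvPolynomial.map_X, mul_assoc]

theorem exists_direction (h : MvPolynomial (Fin n) (𝓞 k)) (hh : h ≠ 0) (i₀ : Fin n) :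
    ∃ d : Fin n → 𝓞 k, MvPolynomial.eval d h ≠ 0 ∧ d i₀ ≠ 0 := by
  by_contra! hcon
  have : h * MvPolynomial.X i₀ = 0 := MvPolynomial.funext fun d => by
    rw [map_mul, MvPolynomial.eval_X, map_zero, mul_eq_zero]
    exact or_iff_not_imp_left.2 (hcon d)
  exact mul_ne_zero hh (MvPolynomial.X_ne_zero i₀) this

/-- An ideal of codimension two contains a nonzero polynomial invariant in a given direction. -/
theorem exists_invariant {m : ℕ} (f : Fin m → MvPolynomial (Fin n) (𝓞 k))
    (hcodim : ringKrullDim (MvPolynomial (Fin n) k ⧸ Ideal.span (Set.range fun j => toField (f j))) + 2 ≤ (n : WithBot ℕ∞))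
    (d : Fin n → 𝓞 k) (i₀ : Fin n) (hd : d i₀ ≠ 0) :
    ∃ (g : MvPolynomial (Fin n) (𝓞 k)) (a : Fin m → MvPolynomial (Fin n) (𝓞 k)), toField g ≠ 0 ∧ g = ∑ j, a j * f j ∧
      ∀ (x : Fin n → k) (t : k), MvPolynomial.aeval (fun i => x i + t * (d i : k)) (toField g) = MvPolynomial.aeval x (toField g) := by
  classical
  let I : Ideal (MvPolynomial (Fin n) k) := Ideal.span (Set.range fun j => toField (f j))
  let A := MvPolynomial (Fin n) k ⧸ I
  let y : ULift.{u} {i : Fin n // i ≠ i₀} → MvPolynomial (Fin n) k := fun i =>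
    MvPolynomial.C (d i₀ : k) * MvPolynomial.X i.down.1 - MvPolynomial.C (d i.down.1 : k) * MvPolynomial.X i₀
  obtain ⟨G, hG, hGI⟩ : ∃ G, G ≠ 0 ∧ MvPolynomial.aeval (R := k) y G ∈ I := by
    by_contra! hcon
    let S : Submonoid A := ((nonZeroDivisors (MvPolynomial (ULift.{u} {i : Fin n // i ≠ i₀}) k))).map
      ((Ideal.Quotient.mkₐ k I).comp (MvPolynomial.aeval (R := k) y)).toRingHom
    have hdisj : Disjoint ((⊥ : Ideal A) : Set A) (S : Set A) := by
      rw [Set.disjoint_left]
      rintro x hx ⟨G, hG, rfl⟩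
      exact hcon G (nonZeroDivisors.ne_zero hG) (Ideal.Quotient.eq_zero_iff_mem.1 hx)
    obtain ⟨p, hp, -, hpS⟩ := Ideal.exists_le_prime_disjoint ⊥ S hdisj
    haveI := hp
    obtain ⟨s, hs, hs'⟩ := DimTrdeg.exists_trdeg_eq_ringKrullDim k (A ⧸ p)
    let z : ULift.{u} {i : Fin n // i ≠ i₀} → A ⧸ p := fun i => Ideal.Quotient.mk p (Ideal.Quotient.mk I (y i))
    have hz : AlgebraicIndependent k z := by
      rw [algebraicIndependent_iff]
      intro G hG
      by_contra hG0
      have hmem : Ideal.Quotient.mk I (MvPolynomial.aeval (R := k) y G) ∈ p := by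
        rw [← Ideal.Quotient.eq_zero_iff_mem, ← hG, show z = fun i => ((Ideal.Quotient.mkₐ k p).comp (Ideal.Quotient.mkₐ k I)) (y i) from rfl,
          ← MvPolynomial.comp_aeval_apply]
        rfl
      exact Set.disjoint_left.1 hpS hmem ⟨G, mem_nonZeroDivisors_of_ne_zero hG0, rfl⟩
    have h1 := hz.cardinalMk_le_trdeg
    rw [hs, Cardinal.mk_fintype, Nat.cast_le, Fintype.card_ulift, Fintype.card_subtype_compl, Fintype.card_fin,
      Fintype.card_subtype_eq] at h1
    have h2 : ringKrullDim (A ⧸ p) ≤ ringKrullDim A := ringKrullDim_quotient_le p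
    rw [hs'] at h2
    have h3 : ((s + 2 : ℕ) : WithBot ℕ∞) ≤ (n : WithBot ℕ∞) := by
      rw [Nat.cast_add]
      exact (add_le_add h2 le_rfl).trans hcodim
    have h4 : s + 2 ≤ n := by exact_mod_cast h3
    omega
  obtain ⟨a, ha⟩ := (Ideal.mem_span_range_iff_exists_fun).1 hGI
  choose b a' hb ha' using fun j => exists_clear (a j)
  let B : 𝓞 k := ∏ j, b j
  refine ⟨∑ j, MvPolynomial.C (∏ l ∈ Finset.univ.erase j, b l) * a' j * f j,
    fun j => MvPolynomial.C (∏ l ∈ Finset.univ.erase j, b l) * a' j, ?_, rfl, ?_⟩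
  all_goals
    have hg : toField (∑ j, MvPolynomial.C (∏ l ∈ Finset.univ.erase j, b l) * a' j * f j) =
        MvPolynomial.C (B : k) * MvPolynomial.aeval (R := k) y G := by
      rw [← ha, Finset.mul_sum, toField, map_sum]
      refine Finset.sum_congr rfl fun j _ => ?_
      have h1 : MvPolynomial.map (algebraMap (𝓞 k) k) (a' j) = MvPolynomial.C (b j : k) * a j := ha' j
      have h2 : (∏ l ∈ Finset.univ.erase j, (b l : k)) * (b j : k) = (B : k) := by
        rw [mul_comm, Finset.mul_prod_erase _ (fun l => (b l : k)) (Finset.mem_univ j)]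
        exact (map_prod (algebraMap (𝓞 k) k) b _).symm
      rw [map_mul, map_mul, h1, MvPolynomial.map_C, ← mul_assoc (MvPolynomial.C _), ← MvPolynomial.C_mul, map_prod, h2,
        mul_assoc]
      rfl
  · rw [hg]
    refine mul_ne_zero (fun h => ?_) fun h => hG ?_
    · exact Finset.prod_ne_zero_iff.2 (fun j _ => hb j) (RingOfIntegers.coe_injective ((MvPolynomial.C_eq_zero.1 h).trans (map_zero _).symm))
    · have hd' : (d i₀ : k) ≠ 0 := fun h => hd (RingOfIntegers.coe_injective (h.trans (map_zero _).symm))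
      let φ : MvPolynomial (Fin n) k →ₐ[k] MvPolynomial (ULift.{u} {i : Fin n // i ≠ i₀}) k :=
        MvPolynomial.aeval fun i => if hi : i = i₀ then 0 else MvPolynomial.C (d i₀ : k)⁻¹ * MvPolynomial.X (ULift.up ⟨i, hi⟩)
      have hφ : φ.comp (MvPolynomial.aeval (R := k) y) = AlgHom.id k _ := MvPolynomial.algHom_ext fun i => by
        simp only [AlgHom.comp_apply, MvPolynomial.aeval_X, y, φ, map_sub, map_mul, MvPolynomial.aeval_C, AlgHom.id_apply,
          dif_pos, mul_zero, sub_zero, dif_neg i.down.2, MvPolynomial.algebraMap_eq]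
        rw [← mul_assoc, ← MvPolynomial.C_mul, mul_inv_cancel₀ hd', MvPolynomial.C_1, one_mul]
      have := congrArg φ h
      rw [map_zero, ← AlgHom.comp_apply, hφ] at this
      exact this
  · intro x t
    rw [hg, map_mul, map_mul, MvPolynomial.aeval_C, MvPolynomial.aeval_C, MvPolynomial.comp_aeval_apply, MvPolynomial.comp_aeval_apply]
    congr 1
    refine congrArg (fun F => MvPolynomial.aeval F G) (funext fun i => ?_)
    simp only [y, map_sub, map_mul, MvPolynomial.aeval_C, MvPolynomial.aeval_X, Algebra.algebraMap_self, RingHom.id_apply]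
    ring

end Groth.Agent.StrongApprox
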