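import Mathlib

/-!
# Strong approximation for the additive group off a finite place
-/

set_option autoImplicit false

universe u

namespace Groth.Agent.StrongApprox

open NumberField IsDedekindDomain IsDedekindDomain.HeightOneSpectrum
open scoped nonZeroDivisors WithZero

variable {k : Type u} [Field k] [NumberField k]

theorem exists_generator_pow (v₀ : HeightOneSpectrum (𝓞 k)) :
    ∃ π : 𝓞 k, π ≠ 0 ∧ π ∈ v₀.asIdeal ∧ ∀ v : HeightOneSpectrum (𝓞 k), v ≠ v₀ → π ∉ v.asIdeal := by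
  let N := Fintype.card (ClassGroup (𝓞 k))
  have hI : v₀.asIdeal ∈ (Ideal (𝓞 k))⁰ := mem_nonZeroDivisors_of_ne_zero v₀.ne_bot
  have h1 : ClassGroup.mk0 ⟨v₀.asIdeal ^ N, pow_mem hI N⟩ = 1 := by
    rw [show (⟨v₀.asIdeal ^ N, pow_mem hI N⟩ : (Ideal (𝓞 k))⁰) = ⟨v₀.asIdeal, hI⟩ ^ N from rfl, map_pow]
    exact pow_card_eq_one
  obtain ⟨π, hπ⟩ := ((ClassGroup.mk0_eq_one_iff (pow_mem hI N)).1 h1).principal
  have hmem : π ∈ v₀.asIdeal ^ N := hπ.symm ▸ Submodule.mem_span_singleton_self π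
  refine ⟨π, fun h0 => ?_, Ideal.pow_le_self Fintype.card_ne_zero hmem, fun v hv hπv => hv ?_⟩
  · rw [h0, Submodule.span_singleton_eq_bot.2 rfl] at hπ
    exact pow_ne_zero N v₀.ne_bot hπ
  · have h2 : v₀.asIdeal ^ N ≤ v.asIdeal := hπ.le.trans (Submodule.span_le.2 (Set.singleton_subset_iff.2 hπv))
    exact HeightOneSpectrum.ext (v₀.isMaximal.eq_of_le v.isPrime.ne_top (Ideal.IsPrime.le_of_pow_le h2)).symm

theorem place_ratCast (w : InfinitePlace k) (q : ℚ) : w (q : k) = |(q : ℝ)| := by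
  rw [← InfinitePlace.norm_embedding_eq, map_ratCast, Complex.norm_ratCast]

theorem place_sum_le (w : InfinitePlace k) {ι : Type*} (s : Finset ι) (f : ι → k) :
    w (∑ i ∈ s, f i) ≤ ∑ i ∈ s, w (f i) :=
  w.1.sum_le s f

/-- Small elements of `π⁻ᵉ M` at all infinite places. -/
theorem exists_small {π M : 𝓞 k} (hπ : π ≠ 0) (hπu : ¬ IsUnit π) (hM : M ≠ 0) {δ : ℝ} (hδ : 0 < δ) :
    ∃ (b : 𝓞 k) (e : ℕ), b ≠ 0 ∧ ∀ w : InfinitePlace k, w ((M : k) * b / (π : k) ^ e) < δ := by
  classical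
  have hπk : (π : k) ≠ 0 := fun h => hπ (RingOfIntegers.coe_injective (h.trans (map_zero _).symm))
  let W : ℝ := 1 + ∑ w : InfinitePlace k, w (M : k)
  have hW : 0 < W := lt_of_lt_of_le zero_lt_one (le_add_of_nonneg_right (Finset.sum_nonneg fun w _ => apply_nonneg w _))
  have hWw : ∀ w : InfinitePlace k, w (M : k) < W := fun w =>
    lt_of_le_of_lt (Finset.single_le_sum (f := fun w : InfinitePlace k => w (M : k)) (fun w _ => apply_nonneg w _) (Finset.mem_univ w))
      (lt_one_add _)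
  let c : NNReal := ⟨δ / W, (div_pos hδ hW).le⟩
  let p : InfinitePlace k → NNReal := fun w => ⟨w (π : k), apply_nonneg w _⟩
  let cd : NNReal := ∏ w : InfinitePlace k, c ^ InfinitePlace.mult w
  have hc : c ≠ 0 := fun h => (div_pos hδ hW).ne' (congrArg NNReal.toReal h)
  have hcd : cd ≠ 0 := Finset.prod_ne_zero_iff.2 fun w _ => pow_ne_zero _ hc
  have hnorm : 1 < ∏ w, p w ^ InfinitePlace.mult w := by
    rw [← NNReal.coe_lt_coe, NNReal.coe_one, NNReal.coe_prod]
    simp only [NNReal.coe_pow]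
    show (1 : ℝ) < ∏ w : InfinitePlace k, w (π : k) ^ InfinitePlace.mult w
    rw [InfinitePlace.prod_eq_abs_norm]
    have h1 : Algebra.norm ℚ (π : k) = (Algebra.norm ℤ π : ℚ) := (Algebra.coe_norm_int π).symm
    have h2 : (Algebra.norm ℤ π).natAbs ≠ 1 := fun h => hπu (NumberField.isUnit_iff_norm.2 (by
      rw [RingOfIntegers.coe_norm, h1, ← Int.cast_abs, Int.abs_eq_natAbs, h]; norm_num))
    have h3 : (Algebra.norm ℤ π).natAbs ≠ 0 := Int.natAbs_ne_zero.2 (Algebra.norm_ne_zero_iff.2 hπ)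
    rw [h1, ← Int.cast_abs, Rat.cast_intCast, Int.abs_eq_natAbs]
    exact_mod_cast Nat.one_lt_iff_ne_zero_and_ne_one.2 ⟨h3, h2⟩
  obtain ⟨e, he⟩ := pow_unbounded_of_one_lt ((mixedEmbedding.minkowskiBound k ↑1).toNNReal /
    (mixedEmbedding.convexBodyLTFactor k * cd)) hnorm
  let f : InfinitePlace k → NNReal := fun w => c * p w ^ e
  have hprod : ∏ w, f w ^ InfinitePlace.mult w = cd * (∏ w, p w ^ InfinitePlace.mult w) ^ e := by
    simp only [f, cd, mul_pow, Finset.prod_mul_distrib, ← Finset.prod_pow, ← pow_mul, mul_comm e]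
  obtain ⟨b, hb, hbw⟩ := mixedEmbedding.exists_ne_zero_mem_ringOfIntegers_lt k (f := f) (by
    rw [mixedEmbedding.convexBodyLT_volume, hprod, ← ENNReal.coe_toNNReal (mixedEmbedding.minkowskiBound_lt_top k _).ne,
      ← ENNReal.coe_mul, ENNReal.coe_lt_coe]
    rw [div_lt_iff₀ (pos_iff_ne_zero.2 (mul_ne_zero (mixedEmbedding.convexBodyLTFactor_ne_zero k) hcd))] at he
    calc _ < _ := he
      _ = _ := by ring)
  refine ⟨b, e, hb, fun w => ?_⟩
  have hπw : 0 < w (π : k) := InfinitePlace.pos_iff.2 hπk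
  rw [map_div₀, map_mul, map_pow, div_lt_iff₀ (pow_pos hπw e)]
  calc w (M : k) * w (b : k) ≤ w (M : k) * (δ / W * w (π : k) ^ e) :=
        mul_le_mul_of_nonneg_left (hbw w).le (apply_nonneg w _)
    _ < W * (δ / W * w (π : k) ^ e) := mul_lt_mul_of_pos_right (hWw w) (mul_pos (div_pos hδ hW) (pow_pos hπw e))
    _ = δ * w (π : k) ^ e := by field_simp

theorem valuation_coe_le_one (v : HeightOneSpectrum (𝓞 k)) (r : 𝓞 k) : v.valuation k (r : k) ≤ 1 :=
  v.valuation_le_one r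

theorem valuation_coe_eq_one {v : HeightOneSpectrum (𝓞 k)} {r : 𝓞 k} (h : r ∉ v.asIdeal) : v.valuation k (r : k) = 1 :=
  v.valuation_eq_one_iff_notMem.2 h

/-- Elements divisible by `M` away from `v₀` are dense at infinity. -/
theorem exists_near_infinite (v₀ : HeightOneSpectrum (𝓞 k)) {M : 𝓞 k} (hM : M ≠ 0)
    (U : ∀ w : InfinitePlace k, Set w.Completion) (hU : ∀ w, IsOpen (U w) ∧ (U w).Nonempty) :
    ∃ t : k, (∀ w, algebraMap k w.Completion t ∈ U w) ∧
      ∀ v : HeightOneSpectrum (𝓞 k), v ≠ v₀ → v.valuation k t ≤ v.valuation k (M : k) := by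
  classical
  obtain ⟨y, hy⟩ := (InfiniteAdeleRing.denseRange_algebraMap k).exists_mem_open
    (isOpen_set_pi Set.finite_univ fun w _ => (hU w).1)
    ⟨fun w => (hU w).2.some, fun w _ => (hU w).2.some_mem⟩
  have hy' : ∀ w, algebraMap k w.Completion y ∈ U w := fun w => hy w trivial
  choose ε hε hεU using fun w => Metric.isOpen_iff.1 (hU w).1 _ (hy' w)
  obtain ⟨ε₀, hε₀, hε₀le⟩ : ∃ e > 0, ∀ w, e ≤ ε w :=
    ⟨Finset.univ.inf' Finset.univ_nonempty ε, (Finset.lt_inf'_iff _).2 fun w _ => hε w, fun w => Finset.inf'_le _ (Finset.mem_univ w)⟩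
  obtain ⟨π, hπ0, hπv₀, hπ⟩ := exists_generator_pow v₀
  have hπu : ¬ IsUnit π := fun h => v₀.isPrime.ne_top (Ideal.eq_top_of_isUnit_mem _ hπv₀ h)
  let S : ℝ := 1 + ∑ w : InfinitePlace k, ∑ i, w (integralBasis k i)
  have hS : 0 < S := lt_of_lt_of_le zero_lt_one
    (le_add_of_nonneg_right (Finset.sum_nonneg fun w _ => Finset.sum_nonneg fun i _ => apply_nonneg w _))
  obtain ⟨b, e, hb, ha⟩ := exists_small hπ0 hπu hM (div_pos hε₀ hS)
  have hπk : (π : k) ≠ 0 := fun h => hπ0 (RingOfIntegers.coe_injective (h.trans (map_zero _).symm))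
  have hMk : (M : k) ≠ 0 := fun h => hM (RingOfIntegers.coe_injective (h.trans (map_zero _).symm))
  have hbk : (b : k) ≠ 0 := fun h => hb (RingOfIntegers.coe_injective (h.trans (map_zero _).symm))
  let a : k := (M : k) * b / (π : k) ^ e
  have ha0 : a ≠ 0 := div_ne_zero (mul_ne_zero hMk hbk) (pow_ne_zero _ hπk)
  let q := (integralBasis k).repr (y / a)
  let s : 𝓞 k := ∑ i, round (q i) • RingOfIntegers.basis k i
  refine ⟨a * s, fun w => hεU w ?_, fun v hv => ?_⟩
  · rw [Metric.mem_ball, dist_eq_norm, ← map_sub]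
    have hdiff : a * s - y = a * ∑ i, ((round (q i) : ℚ) - q i) • integralBasis k i := by
      simp only [sub_smul, Finset.sum_sub_distrib, mul_sub]
      rw [show ∑ i, q i • integralBasis k i = y / a from (integralBasis k).sum_repr (y / a), mul_div_cancel₀ y ha0]
      congr 2
      simp only [s, map_sum, integralBasis_apply, map_zsmul]
      exact Finset.sum_congr rfl fun i _ => (Int.cast_smul_eq_zsmul ℚ _ _).symm
    have hnorm : ‖algebraMap k w.Completion (a * s - y)‖ = w (a * s - y) :=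
      InfinitePlace.Completion.norm_coe (v := w) (WithAbs.toAbs w.1 (a * s - y))
    rw [hnorm, hdiff, map_mul]
    have hsum : w (∑ i, ((round (q i) : ℚ) - q i) • integralBasis k i) < S := by
      refine lt_of_le_of_lt ((place_sum_le w _ _).trans (Finset.sum_le_sum fun i _ => ?_)) (lt_of_le_of_lt
        (Finset.single_le_sum (f := fun w : InfinitePlace k => ∑ i, w (integralBasis k i))
          (fun w _ => Finset.sum_nonneg fun i _ => apply_nonneg w _) (Finset.mem_univ w)) (lt_one_add _))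
      rw [Algebra.smul_def, map_mul, eq_ratCast, place_ratCast]
      refine mul_le_of_le_one_left (apply_nonneg w _) ?_
      have h1 := abs_sub_round (q i)
      rw [abs_sub_comm] at h1
      have h2 : |((round (q i) : ℚ) - q i : ℚ)| ≤ 1 := h1.trans (by norm_num)
      exact_mod_cast h2
    calc w a * w _ ≤ w a * S := mul_le_mul_of_nonneg_left hsum.le (apply_nonneg w _)
      _ < ε₀ / S * S := mul_lt_mul_of_pos_right (ha w) hS
      _ = ε₀ := div_mul_cancel₀ _ hS.ne'
      _ ≤ ε w := hε₀le w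
  · simp only [a, map_mul, map_div₀, map_pow, valuation_coe_eq_one (hπ v hv), one_pow, div_one]
    exact (mul_le_of_le_one_right' (valuation_coe_le_one v s)).trans (mul_le_of_le_one_right' (valuation_coe_le_one v b))

theorem finite_valuation_lt_one (a : 𝓞 k) (ha : a ≠ 0) : {v : HeightOneSpectrum (𝓞 k) | a ∈ v.asIdeal}.Finite := by
  refine (Ideal.finite_factors (I := Ideal.span {a}) (by simpa using ha)).subset fun v hv => ?_
  rw [Set.mem_setOf_eq, Ideal.dvd_span_singleton]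
  exact hv

theorem exists_exp_lt (γ : (ℤᵐ⁰)ˣ) : ∃ n : ℕ, WithZero.exp (-(n : ℤ)) < (γ : ℤᵐ⁰) := by
  obtain ⟨a, ha⟩ : ∃ a : ℤ, (γ : ℤᵐ⁰) = WithZero.exp a := ⟨WithZero.log (γ : ℤᵐ⁰), (WithZero.exp_log γ.ne_zero).symm⟩
  refine ⟨(1 - a).toNat, ?_⟩
  rw [ha, WithZero.exp_lt_exp]
  omega

theorem exists_ball (v : HeightOneSpectrum (𝓞 k)) {s : Set (v.adicCompletion k)} (hs : IsOpen s) {a : v.adicCompletion k}
    (ha : a ∈ s) : ∃ γ : (ℤᵐ⁰)ˣ, ∀ y, Valued.v (y - a) < (γ : ℤᵐ⁰) → y ∈ s := by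
  obtain ⟨γ, hγ⟩ := Valued.mem_nhds.1 (hs.mem_nhds ha)
  refine ⟨Units.mk0 (MonoidWithZeroHom.ValueGroup₀.embedding γ.1) fun h => γ.ne_zero
    (MonoidWithZeroHom.ValueGroup₀.embedding_strictMono.injective (h.trans (map_zero _).symm)), fun y hy => hγ ?_⟩
  exact (Valuation.restrict_lt_iff_lt_embedding _).2 hy

theorem exists_near_integer (v : HeightOneSpectrum (𝓞 k)) {a : v.adicCompletion k}
    (ha : Valued.v a ≤ (1 : ℤᵐ⁰)) (γ : (ℤᵐ⁰)ˣ) :
    ∃ r : 𝓞 k, Valued.v (algebraMap k (v.adicCompletion k) (r : k) - a) < (γ : ℤᵐ⁰) := by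
  let γ' : (ℤᵐ⁰)ˣ := min γ 1
  have hopen : IsOpen {y : v.adicCompletion k | Valued.v (y - a) < (γ' : ℤᵐ⁰)} := by
    show IsOpen ((fun y : v.adicCompletion k => y - a) ⁻¹' {x | Valued.v x < (γ' : ℤᵐ⁰)})
    refine IsOpen.preimage (continuous_id.sub continuous_const) ?_
    obtain ⟨z, hz⟩ := valuedAdicCompletion_surjective k v (γ' : ℤᵐ⁰)
    have : {x : v.adicCompletion k | Valued.v x < (γ' : ℤᵐ⁰)} = {x | Valued.v.restrict x < Valued.v.restrict z} := by
      ext x; simp only [Set.mem_setOf_eq, Valuation.restrict_lt_iff, hz]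
    rw [this]
    exact Valued.isOpen_ball _ _
  obtain ⟨y, hy⟩ := (denseRange_algebraMap k v).exists_mem_open hopen ⟨a, by simp [zero_lt_iff]⟩
  have hy' : Valued.v (algebraMap k (v.adicCompletion k) y - a) < (γ' : ℤᵐ⁰) := hy
  have hy1 : v.valuation k y ≤ 1 := by
    rw [← valuedAdicCompletion_eq_valuation' v y]
    have : Valued.v (algebraMap k (v.adicCompletion k) y) ≤ (1 : ℤᵐ⁰) := by
      have h1 : Valued.v (algebraMap k (v.adicCompletion k) y - a) ≤ (1 : ℤᵐ⁰) :=
        hy'.le.trans (show (γ' : ℤᵐ⁰) ≤ 1 from min_le_right γ 1)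
      simpa using Valuation.map_add_le _ h1 ha
    exact this
  obtain ⟨r, hr⟩ := v.exists_valuation_sub_lt_of_integer hy1 γ'
  refine ⟨r, lt_of_lt_of_le ?_ (show (γ' : ℤᵐ⁰) ≤ γ from min_le_left γ 1)⟩
  have h2 : Valued.v (algebraMap k (v.adicCompletion k) ((r : k) - y)) < (γ' : ℤᵐ⁰) :=
    (valuedAdicCompletion_eq_valuation' v ((r : k) - y)).trans_lt hr
  have := Valuation.map_add_lt _ h2 hy'
  rwa [map_sub, sub_add_sub_cancel] at this

/-- Strong approximation off the place `v₀`. -/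
theorem exists_approx (v₀ : HeightOneSpectrum (𝓞 k)) (F : Finset (HeightOneSpectrum (𝓞 k))) (hv₀ : v₀ ∉ F)
    (u : ∀ v : HeightOneSpectrum (𝓞 k), Set (v.adicCompletion k)) (hu : ∀ v ∈ F, IsOpen (u v) ∧ (u v).Nonempty)
    (U : ∀ w : InfinitePlace k, Set w.Completion) (hU : ∀ w, IsOpen (U w) ∧ (U w).Nonempty) :
    ∃ x : k, (∀ v ∈ F, algebraMap k (v.adicCompletion k) x ∈ u v) ∧ (∀ w, algebraMap k w.Completion x ∈ U w) ∧
      ∀ v, v ∉ F → v ≠ v₀ → v.valuation k x ≤ 1 := by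
  classical
  choose a ha γ hγ using fun v : F => (⟨(hu v v.2).2.some, (hu v v.2).2.some_mem, exists_ball v.1 (hu v v.2).1 (hu v v.2).2.some_mem⟩ :
    ∃ a, a ∈ u v.1 ∧ ∃ γ : (ℤᵐ⁰)ˣ, ∀ y, Valued.v (y - a) < (γ : ℤᵐ⁰) → y ∈ u v.1)
  choose b hb hab using fun v : F => adicCompletion.mul_nonZeroDivisor_mem_adicCompletionIntegers v.1 (a v)
  let D : 𝓞 k := ∏ v : F, b v
  have hD : D ≠ 0 := Finset.prod_ne_zero_iff.2 fun v _ => nonZeroDivisors.ne_zero (hb v)
  have hDk : (D : k) ≠ 0 := fun h => hD (RingOfIntegers.coe_injective (h.trans (map_zero _).symm))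
  let F' := (finite_valuation_lt_one D hD).toFinset ∪ F
  have hDout : ∀ v : HeightOneSpectrum (𝓞 k), v ∉ F' → v.valuation k (D : k) = 1 := fun v hv => valuation_coe_eq_one fun h =>
    hv (Finset.mem_union_left _ ((Set.Finite.mem_toFinset _).2 h))
  -- targets on the enlarged set
  let c : ∀ v : HeightOneSpectrum (𝓞 k), v.adicCompletion k := fun v => if h : v ∈ F then a ⟨v, h⟩ * algebraMap k _ (D : k) else 0
  let g : HeightOneSpectrum (𝓞 k) → (ℤᵐ⁰)ˣ := fun v =>
    (if h : v ∈ F then γ ⟨v, h⟩ else 1) * Units.mk0 (v.valuation k (D : k)) ((Valuation.ne_zero_iff _).2 hDk)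
  have hc : ∀ v, Valued.v (c v) ≤ (1 : ℤᵐ⁰) := fun v => by
    by_cases h : v ∈ F
    · simp only [c, dif_pos h]
      have h1 := hab ⟨v, h⟩
      rw [mem_adicCompletionIntegers] at h1
      have hsplit : (D : k) = (b ⟨v, h⟩ : k) * ((∏ v' ∈ Finset.univ.erase ⟨v, h⟩, b v' : 𝓞 k) : k) := by
        rw [← map_mul, Finset.mul_prod_erase _ _ (Finset.mem_univ _)]
      rw [hsplit, map_mul (algebraMap k (v.adicCompletion k)), ← mul_assoc, Valuation.map_mul]
      exact mul_le_one' h1 ((valuedAdicCompletion_eq_valuation' v _).trans_le (valuation_coe_le_one v _))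
    · simp [c, dif_neg h]
  choose r hr using fun v : F' => exists_near_integer v.1 (hc v.1) (g v.1)
  choose n hn using fun v : HeightOneSpectrum (𝓞 k) => exists_exp_lt (g v)
  obtain ⟨R, hR⟩ := IsDedekindDomain.exists_forall_sub_mem_ideal (s := F') (fun v : HeightOneSpectrum (𝓞 k) => v.asIdeal) n
    (fun v _ => v.prime) (fun v _ w _ hvw e => hvw (HeightOneSpectrum.ext e)) r
  choose z hz hz0 using fun v : HeightOneSpectrum (𝓞 k) => Submodule.exists_mem_ne_zero_of_ne_bot v.ne_bot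
  let M : 𝓞 k := ∏ v ∈ F', z v ^ n v
  have hM : M ≠ 0 := Finset.prod_ne_zero_iff.2 fun v _ => pow_ne_zero _ (hz0 v)
  have hMv : ∀ v ∈ F', v.valuation k (M : k) < (g v : ℤᵐ⁰) := fun v hv => by
    refine lt_of_le_of_lt ?_ (hn v)
    rw [show (M : k) = algebraMap (𝓞 k) k M from rfl, valuation_of_algebraMap, intValuation_le_pow_iff_mem]
    exact Ideal.mem_of_dvd _ (Finset.dvd_prod_of_mem _ hv) (Ideal.pow_mem_pow (hz v) _)
  let sc : ∀ w : InfinitePlace k, w.Completion → w.Completion := fun w x => (algebraMap k w.Completion (R : k) + x) / algebraMap k w.Completion (D : k)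
  obtain ⟨t, htU, htv⟩ := exists_near_infinite v₀ hM (fun w => sc w ⁻¹' U w) fun w => by
    have hD' : algebraMap k w.Completion (D : k) ≠ 0 := (_root_.map_ne_zero _).2 hDk
    refine ⟨(hU w).1.preimage ((continuous_const.add continuous_id).div_const _), ⟨(hU w).2.some * algebraMap k w.Completion (D : k) - algebraMap k w.Completion (R : k), ?_⟩⟩
    rw [Set.mem_preimage, show sc w _ = (hU w).2.some by simp only [sc, add_sub_cancel, mul_div_cancel_right₀ _ hD']]
    exact (hU w).2.some_mem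
  have hmain : ∀ v ∈ F', v ≠ v₀ → Valued.v (algebraMap k (v.adicCompletion k) ((R : k) + t) - c v) < (g v : ℤᵐ⁰) := by
    intro v hv hv0
    have h1 : Valued.v (algebraMap k (v.adicCompletion k) ((R : k) - (r ⟨v, hv⟩ : k))) < (g v : ℤᵐ⁰) := by
      refine (valuedAdicCompletion_eq_valuation' v _).trans_lt (lt_of_le_of_lt ?_ (hn v))
      show v.valuation k ((R : k) - (r ⟨v, hv⟩ : k)) ≤ _
      rw [show (R : k) - (r ⟨v, hv⟩ : k) = algebraMap (𝓞 k) k (R - r ⟨v, hv⟩) from (map_sub _ _ _).symm,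
        valuation_of_algebraMap, intValuation_le_pow_iff_mem]
      exact hR v hv
    have h2 : Valued.v (algebraMap k (v.adicCompletion k) t) < (g v : ℤᵐ⁰) :=
      (valuedAdicCompletion_eq_valuation' v t).trans_lt (lt_of_le_of_lt (htv v hv0) (hMv v hv))
    have h3 := Valuation.map_add_lt _ (Valuation.map_add_lt _ h1 (hr ⟨v, hv⟩)) h2
    rwa [map_sub, sub_add_sub_cancel, show algebraMap k (v.adicCompletion k) (R : k) - c v + algebraMap k _ t =
      algebraMap k (v.adicCompletion k) ((R : k) + t) - c v by rw [map_add]; ring] at h3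
  refine ⟨((R : k) + t) / (D : k), fun v hv => ?_, fun w => ?_, fun v hv hv0 => ?_⟩
  · refine hγ ⟨v, hv⟩ _ ?_
    have h := hmain v (Finset.mem_union_right _ hv) (fun e => hv₀ (e ▸ hv))
    have hD' : algebraMap k (v.adicCompletion k) (D : k) ≠ 0 := (_root_.map_ne_zero _).2 hDk
    have hvD : Valued.v (algebraMap k (v.adicCompletion k) (D : k)) = v.valuation k (D : k) := valuedAdicCompletion_eq_valuation' v _
    simp only [c, g, dif_pos hv, Units.val_mul, Units.val_mk0] at h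
    rw [show algebraMap k (v.adicCompletion k) (((R : k) + t) / (D : k)) - a ⟨v, hv⟩ =
      (algebraMap k (v.adicCompletion k) ((R : k) + t) - a ⟨v, hv⟩ * algebraMap k _ (D : k)) / algebraMap k _ (D : k) by
        rw [map_div₀, sub_div, mul_div_cancel_right₀ _ hD'],
      map_div₀, hvD, div_lt_iff₀ (zero_lt_iff.2 ((Valuation.ne_zero_iff _).2 hDk))]
    exact h
  · rw [map_div₀, map_add]
    exact htU w
  · rw [map_div₀]
    by_cases hv' : v ∈ F'
    · have h := hmain v hv' hv0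
      simp only [c, g, dif_neg hv, sub_zero, one_mul, Units.val_mk0] at h
      exact div_le_one_of_le₀ ((valuedAdicCompletion_eq_valuation' v _).symm.trans_le h.le) zero_le
    · rw [hDout v hv', div_one]
      exact Valuation.map_add_le _ (valuation_coe_le_one v R) ((htv v hv0).trans (valuation_coe_le_one v M))

end Groth.Agent.StrongApprox
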